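import Cfsg.Agent.Lib.Fischer3Up.M23
import Cfsg.Agent.Lib.Fischer3Tv.Width
import Cfsg.Agent.Lib.Fischer3Tv.Quasi

/-!
# The perps in a group of type M23 are quasisimple; width
-/

set_option autoImplicit false
set_option linter.unusedSectionVars false
set_option linter.style.haveILetI false

namespace Cfsg.Agent.Fischer3Up

open Cfsg ClassK Fischer3 Fischer3Rel Fischer3Srg
open scoped commutatorElement

universe u

variable {G : Type u} [Group G] [Finite G] {D : Set G}
variable (hG : IsThreeTranspositionGroup D) (hprim : IsPrimitiveUnderConj D) (hM : IsOfTypeM23 G D)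
include hG hprim hM

theorem simple_img {d : G} (hd : d ∈ D) : IsSimpleGroup (↥(H D d) ⧸ Subgroup.center ↥(H D d)) := by
  obtain ⟨h1, h2, h3⟩ := img22 hG hprim hM hd
  exact Fischer3Tv.simple h1 h2 h3

theorem core_H {d : G} (hd : d ∈ D) : pCore 2 ↥(H D d) ≤ Subgroup.center ↥(H D d) := by
  haveI := simple_img hG hprim hM hd
  have h2 := (simple_quot hG.1 (simple_img hG hprim hM hd)).2
  set π := QuotientGroup.mk' (Subgroup.center ↥(H D d))
  intro x hx
  haveI : Fact (Nat.Prime 2) := ⟨Nat.prime_two⟩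
  have hle : (pCore 2 ↥(H D d)).map π ≤ ⊥ := h2 ▸ Components.le_pCore
    ((Basics.pCore_normal (G := ↥(H D d)) 2).map π (QuotientGroup.mk'_surjective _))
    ((Basics.pCore_isPGroup (G := ↥(H D d)) 2).map π)
  exact (QuotientGroup.eq_one_iff x).1 (Subgroup.mem_bot.1 (hle (Subgroup.mem_map_of_mem π hx)))

theorem mem_commutator {d : G} (hd : d ∈ D) :
    (⟨d, (below hG hprim hM).self d hd⟩ : ↥(H D d)) ∈ commutator ↥(H D d) := by
  classical
  have hS := hG.1
  have hB := below hG hprim hM
  have hC := class_of_primitive hG hprim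
  have h2' := pCore_two_bot hG hprim hM
  obtain ⟨h1, h2, h3⟩ := img22 hG hprim hM hd
  haveI := simple_img hG hprim hM hd
  set dH : ↥(H D d) := ⟨d, hB.self d hd⟩
  set K := commutator ↥(H D d) with hK
  set π := QuotientGroup.mk' (Subgroup.center ↥(H D d))
  by_contra hdK
  -- every element is in `K` or in `dK`
  have hdiv : ∀ x : ↥(H D d), x ∈ K ∨ x * dH ∈ K := by
    intro x
    have hd2 : dH * dH = 1 := Subtype.ext (tt_mul_self hS hd)
    rcases Subgroup.Normal.eq_bot_or_eq_top
      ((inferInstance : K.Normal).map π (QuotientGroup.mk'_surjective _)) with e | e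
    · exfalso
      obtain ⟨⟨q, hq, r, hr, hqr⟩, -⟩ := simple_quot hS (simple_img hG hprim hM hd)
      have hc : ⁅(⟨q, Subgroup.subset_closure hq⟩ : ↥(H D d)), ⟨r, Subgroup.subset_closure hr⟩⁆ ∈ K :=
        Subgroup.commutator_mem_commutator (Subgroup.mem_top _) (Subgroup.mem_top _)
      have h0 := Subgroup.mem_bot.1 (e.le (Subgroup.mem_map_of_mem π hc))
      rw [map_commutatorElement, commutatorElement_eq_one_iff_commute] at h0
      exact hqr ((bar_commute hS hq hr).1 h0)
    · obtain ⟨y, hy, hxy⟩ : π x ∈ K.map π := e.ge (Subgroup.mem_top _)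
      rcases hB.centre d hd ((y⁻¹ * x : ↥(H D d)) : G) (y⁻¹ * x).2
        fun z hz => commute_of_mem_center (QuotientGroup.eq.1 hxy) hz with e' | e'
      · have : x = y := (inv_mul_eq_one.1 (Subtype.ext e' : y⁻¹ * x = 1)).symm
        exact Or.inl (this ▸ hy)
      · have : x = y * dH := inv_mul_eq_iff_eq_mul.1 (Subtype.ext e' : y⁻¹ * x = dH)
        exact Or.inr (by rw [this, mul_assoc, hd2, mul_one]; exact hy)
  -- members of the perp lie outside `K`
  have hout : ∀ y (hy : y ∈ perp D d), (⟨y, Subgroup.subset_closure hy⟩ : ↥(H D d)) * dH ∈ K := by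
    intro y hy
    refine (hdiv _).resolve_left fun hin => hdK ?_
    have htop : ∀ z : ↥(H D d), z ∈ K := by
      intro z
      obtain ⟨z, hz⟩ := z
      induction hz using Subgroup.closure_induction with
      | mem v hv =>
        obtain ⟨k, hk, e⟩ := perp_orbit hG hprim hM.1 hd hy hv
        rw [show (⟨v, Subgroup.subset_closure hv⟩ : ↥(H D d)) =
          ⟨k, hk⟩ * ⟨y, Subgroup.subset_closure hy⟩ * ⟨k, hk⟩⁻¹ from Subtype.ext e.symm]
        exact (inferInstance : K.Normal).conj_mem _ hin _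
      | one => exact one_mem K
      | mul a b ha hb iha ihb => exact mul_mem iha ihb
      | inv a ha iha => exact inv_mem iha
    exact htop dH
  -- six members with product one modulo the centre
  obtain ⟨a, ha, -⟩ := h2.2.1
  have hloc := (Fischer3Tv.below_base h1 h2 h3).loc
  obtain ⟨y, hy⟩ := nonempty_of_ncard (hloc.size a ha) (by norm_num)
  obtain ⟨z, hz⟩ := nonempty_of_ncard (hloc.pair a ha y hy) (by norm_num)
  obtain ⟨p, q, r, hnd, hper, hcm, hprod, -⟩ :=
    Fischer3Tv.line h1 h2 h3 ha hy hz.1 hz.2.2.1.symm hz.2.2.2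
  set M := a :: [y, z, p, q, r] with hMdef
  have hMmem : ∀ m ∈ M, m ∈ img D d :=
    List.forall_mem_cons.2 ⟨ha, fun m hm => (hper m hm).1⟩
  choose f hfm hfe using fun m (hm : m ∈ img D d) => (show ∃ x : ↥(H D d), (x : G) ∈ perp D d ∧ π x = m from hm)
  set L := M.pmap f hMmem with hLdef
  have hLπ : L.map π = M := by
    rw [hLdef, List.map_pmap]
    simp only [hfe]
    exact (List.pmap_eq_map (f := fun x => x) hMmem).trans (List.map_id _)
  have hLperp : ∀ x ∈ L, (x : G) ∈ perp D d := by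
    intro x hx
    obtain ⟨m, hm, rfl⟩ := List.mem_pmap.1 hx
    exact hfm m (hMmem m hm)
  have hLK : ∀ l : List ↥(H D d), (∀ x ∈ l, (x : G) ∈ perp D d) → l.prod * dH ^ l.length ∈ K := by
    intro l
    induction l with
    | nil => intro _; simp
    | cons x l ih =>
      intro hl
      have h0 : dH ∈ Subgroup.center ↥(H D d) := mem_center_closure _ fun v hv => hv.2.2
      rw [List.prod_cons, List.length_cons, pow_succ', mul_assoc x,
        ← mul_assoc l.prod dH, (Subgroup.mem_center_iff.1 h0 l.prod), mul_assoc dH, ← mul_assoc x]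
      exact mul_mem (hout _ (hl x (List.mem_cons_self ..))) (ih fun v hv => hl v (List.mem_cons_of_mem _ hv))
  have hsix : L.prod ∈ K := by
    have := hLK L hLperp
    rwa [List.length_pmap, show M.length = 6 from rfl, show dH ^ 6 = (dH * dH) * (dH * dH) * (dH * dH) by
      simp only [pow_succ, pow_zero, one_mul, mul_assoc], show dH * dH = 1 from Subtype.ext (tt_mul_self hS hd), one_mul, one_mul, mul_one] at this
  have hM1 : M.prod = 1 := by
    rw [hMdef, List.prod_cons, hprod]; exact tt_mul_self h1.1 ha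
  have hcen : L.prod ∈ Subgroup.center ↥(H D d) := (QuotientGroup.eq_one_iff _).1 (by
    show π L.prod = 1
    rw [map_list_prod, hLπ, hM1])
  rcases hB.centre d hd (L.prod : G) L.prod.2 (fun v hv => commute_of_mem_center hcen hv) with e | e
  · refine no_six hG hprim hd (core_H hG hprim hM hd) (Or.inl hM) (L := L.map Subtype.val)
      ⟨?_, ?_, ?_, ?_⟩ (by simp [hLdef, hMdef])
    · refine List.Nodup.map Subtype.val_injective (List.Nodup.of_map π ?_)
      rw [hLπ]
      exact List.nodup_cons.2 ⟨fun h => (hper a h).2.1 rfl, hnd⟩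
    · intro v hv
      obtain ⟨x, hx, rfl⟩ := List.mem_map.1 hv
      exact (hLperp x hx).1
    · intro v hv v' hv'
      obtain ⟨x, hx, rfl⟩ := List.mem_map.1 hv
      obtain ⟨x', hx', rfl⟩ := List.mem_map.1 hv'
      refine (bar_commute hS (hLperp x hx) (hLperp x' hx')).1 ?_
      have hm : π x ∈ M := hLπ ▸ List.mem_map_of_mem hx
      have hm' : π x' ∈ M := hLπ ▸ List.mem_map_of_mem hx'
      show Commute (π x) (π x')
      rcases List.mem_cons.1 hm with e1 | e1 <;> rcases List.mem_cons.1 hm' with e2 | e2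
      · rw [e1, e2]
      · rw [e1]; exact (hper _ e2).2.2
      · rw [e2]; exact (hper _ e1).2.2.symm
      · exact hcm _ e1 _ e2
    · rw [← e, ← Subgroup.coe_subtype, map_list_prod]
  · exact hdK ((Subtype.ext e : L.prod = dH) ▸ hsix)

theorem quasi {d : G} (hd : d ∈ D) :
    IsQuasisimple ↥(H D d) ∧
      Subgroup.center ↥(H D d) = (Subgroup.zpowers d).subgroupOf (H D d) := by
  have hS := hG.1
  have hB := below hG hprim hM
  have hcen := center_H hB hd
  refine ⟨⟨?_, simple_img hG hprim hM hd⟩, hcen⟩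
  rw [Group.isPerfect_def]
  haveI := simple_img hG hprim hM hd
  set π := QuotientGroup.mk' (Subgroup.center ↥(H D d))
  rcases Subgroup.Normal.eq_bot_or_eq_top
      ((inferInstance : (commutator ↥(H D d)).Normal).map π (QuotientGroup.mk'_surjective _)) with e | e
  · exfalso
    obtain ⟨⟨q, hq, r, hr, hqr⟩, -⟩ := simple_quot hS (simple_img hG hprim hM hd)
    have h0 := Subgroup.mem_bot.1 (e.le (Subgroup.mem_map_of_mem π
      (Subgroup.commutator_mem_commutator (Subgroup.mem_top (⟨q, Subgroup.subset_closure hq⟩ : ↥(H D d)))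
        (Subgroup.mem_top (⟨r, Subgroup.subset_closure hr⟩ : ↥(H D d))))))
    rw [map_commutatorElement, commutatorElement_eq_one_iff_commute] at h0
    exact hqr ((bar_commute hS hq hr).1 h0)
  · refine eq_top_iff.2 fun x _ => ?_
    obtain ⟨y, hy, hxy⟩ : π x ∈ (commutator ↥(H D d)).map π := e ▸ Subgroup.mem_top _
    have hz := QuotientGroup.eq.1 hxy
    rcases hB.centre d hd ((y⁻¹ * x : ↥(H D d)) : G) (y⁻¹ * x).2
      fun z hz' => commute_of_mem_center hz hz' with e' | e'
    · have : x = y := (inv_mul_eq_one.1 (Subtype.ext e' : y⁻¹ * x = 1)).symm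
      exact this ▸ hy
    · have : x = y * ⟨d, hB.self d hd⟩ :=
        inv_mul_eq_iff_eq_mul.1 (Subtype.ext e' : y⁻¹ * x = ⟨d, hB.self d hd⟩)
      rw [this]
      exact mul_mem hy (mem_commutator hG hprim hM hd)

theorem simple : IsSimpleGroup G := by
  have hs := (simple_iff_primitive (class_of_primitive hG hprim) hM.1
    (exists_wit hG hprim hM)).1.2 hprim
  have htop : commutator G = ⊤ := by
    rw [eq_top_iff, ← hG.2.2, Subgroup.closure_le]
    intro x hx
    have := Subgroup.mem_map_of_mem (H D x).subtype (mem_commutator hG hprim hM hx)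
    rw [commutator_def, Subgroup.map_commutator] at this
    exact Subgroup.commutator_mono le_top le_top this
  haveI := hs
  exact ((MulEquiv.subgroupCongr htop).trans Subgroup.topEquiv).symm.isSimpleGroup

/-- The width is 23. -/
theorem width : commutingWidth D = 23 := by
  classical
  have hC := class_of_primitive hG hprim
  have h2' := pCore_two_bot hG hprim hM
  obtain ⟨d, hd, -⟩ := hprim.2.1
  refine le_antisymm (csSup_le ⟨0, ∅, Set.empty_subset _, Set.finite_empty, by simp, Set.ncard_empty _⟩ ?_) ?_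
  · rintro n ⟨E, hED, -, hcm, rfl⟩
    rcases E.eq_empty_or_nonempty with rfl | ⟨e, he⟩
    · simp
    obtain ⟨h1, h2, h3⟩ := img22 hG hprim hM (hED he)
    have hsub : ∀ y ∈ E \ {e}, y ∈ perp D e := fun y hy => ⟨hED hy.1, hy.2, hcm e he y hy.1⟩
    set T : Set (↥(H D e) ⧸ Subgroup.center ↥(H D e)) := {m | ∃ y, ∃ hy : y ∈ perp D e, y ∈ E ∧ bar D e y hy = m}
    have hTi : T ⊆ img D e := fun m ⟨y, hy, _, hm⟩ => hm ▸ ⟨_, hy, rfl⟩
    have h4 : (E \ {e}).ncard = T.ncard := ncard_bar hC h2' (hED he) _ T hsub hTi fun z hz => by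
      constructor
      · rintro ⟨y, hy, hyE, h⟩
        rw [← bar_inj hC h2' (hED he) hy hz h]
        exact ⟨hyE, hy.2.1⟩
      · exact fun h => ⟨z, hz, h.1, rfl⟩
    have h5 : T.ncard ≤ 22 := by
      rw [← Fischer3Tv.width h1 h2 h3]
      refine le_csSup ⟨(img D e).ncard, ?_⟩ ⟨T, hTi, Set.toFinite _, ?_, rfl⟩
      · rintro n ⟨E', hE', -, -, rfl⟩
        exact Set.ncard_le_ncard hE'
      · rintro _ ⟨y, hy, hyE, rfl⟩ _ ⟨z, hz, hzE, rfl⟩
        exact (bar_commute hG.1 hy hz).2 (hcm y hyE z hzE)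
    have h6 := Set.ncard_sdiff_singleton_add_one he (Set.toFinite E)
    omega
  · obtain ⟨h1, h2, h3⟩ := img22 hG hprim hM hd
    have hmem : 22 ∈ {n : ℕ | ∃ E : Set (↥(H D d) ⧸ Subgroup.center ↥(H D d)), E ⊆ img D d ∧ E.Finite ∧
        (∀ a ∈ E, ∀ b ∈ E, Commute a b) ∧ E.ncard = n} := by
      have := Nat.sSup_mem (s := {n : ℕ | ∃ E : Set (↥(H D d) ⧸ Subgroup.center ↥(H D d)), E ⊆ img D d ∧
        E.Finite ∧ (∀ a ∈ E, ∀ b ∈ E, Commute a b) ∧ E.ncard = n})
        ⟨0, ∅, Set.empty_subset _, Set.finite_empty, by simp, Set.ncard_empty _⟩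
        ⟨(img D d).ncard, by rintro n ⟨E', hE', -, -, rfl⟩; exact Set.ncard_le_ncard hE'⟩
      rwa [show sSup _ = 22 from Fischer3Tv.width h1 h2 h3] at this
    obtain ⟨T, hT, -, hTc, hTn⟩ := hmem
    set P : Set G := {y | ∃ hy : y ∈ perp D d, bar D d y hy ∈ T}
    have hP : P.ncard = 22 := by
      rw [← hTn]
      exact ncard_bar hC h2' hd P T (fun y hy => hy.1) hT fun z hz => ⟨fun h => ⟨hz, h⟩, fun h => h.2⟩
    refine le_csSup ⟨D.ncard, ?_⟩ ⟨insert d P, Set.insert_subset hd fun g hg => hg.1.1, Set.toFinite _,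
      ?_, ?_⟩
    · rintro n ⟨E, hED, -, -, rfl⟩
      exact Set.ncard_le_ncard hED
    · rintro a (rfl | ⟨ha, ha'⟩) b (rfl | ⟨hb, hb'⟩)
      · exact Commute.refl _
      · exact hb.2.2
      · exact ha.2.2.symm
      · exact (bar_commute hG.1 ha hb).1 (hTc _ ha' _ hb')
    · rw [Set.ncard_insert_of_notMem (fun h => h.1.2.1 rfl), hP]

end Cfsg.Agent.Fischer3Up
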