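import Cfsg.Agent.Lib.Fischer3Up.Quasi23
import Cfsg.Agent.Lib.Fischer3Tv.Classes
import Cfsg.Agent.Lib.Fischer3Srg.Fac

/-!
# The involutions of a group of type M23
-/

set_option autoImplicit false
set_option linter.unusedSectionVars false
set_option linter.style.haveILetI false

namespace Cfsg.Agent.Fischer3Up

open Cfsg ClassK Fischer3 Fischer3Rel Fischer3Srg

universe u

variable {G : Type u} [Group G] [Finite G] {D : Set G}
variable (hG : IsThreeTranspositionGroup D) (hprim : IsPrimitiveUnderConj D) (hM : IsOfTypeM23 G D)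
include hG hprim hM

theorem no_six' {L : List G} (hL : IsRel D L) (hlen : L.length = 6) : False := by
  obtain ⟨d, hd, -⟩ := hprim.2.1
  exact no_six hG hprim hd (core_H hG hprim hM hd) (Or.inl hM) hL hlen

theorem no_four {L : List G} (hL : IsRel D L) (hlen : L.length = 4) : False := by
  obtain ⟨a, ha, b, hb, hne, hV⟩ := relV_of_four hG.1 hL hlen
  have h := relV_mem_pCore hG ha hb hV
  rw [pCore_two_bot hG hprim hM, Subgroup.mem_bot] at h
  exact hne (by rw [eq_inv_of_mul_eq_one_left h, tt_inv hG.1 hb])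

theorem count_unique {m m' : ℕ} {x : G} (hm : 1 ≤ m) (hm' : m ≤ 3) (hn : 1 ≤ m') (hn' : m' ≤ 3)
    {l l' : List G} (h : Fac D m x l) (h' : Fac D m' x l') : m = m' := by
  have hC := class_of_primitive hG hprim
  have h2 := pCore_two_bot hG hprim hM
  refine fac_unique hG.1 (fun a ha b hb c hc e => ?_) (fun L => no_four hG hprim hM)
    (fun L => m23_five hC h2 hM) hm hm' hn hn' h h'
  have hz : bar D a b hb * bar D a c hc = 1 := by
    rw [← QuotientGroup.mk_mul]
    exact (QuotientGroup.eq_one_iff _).2 (mem_center_closure _ fun y hy => by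
      show Commute (b * c) y
      rw [e]; exact hy.2.2)
  have h1 := (img22 hG hprim hM ha).1
  have hbc : b = c := bar_inj hC h2 ha hb hc (by
    rw [eq_inv_of_mul_eq_one_left hz, tt_inv h1.1 ⟨_, hc, rfl⟩])
  subst hbc
  rw [tt_mul_self hG.1 hb.1] at e
  have := hG.1.1 a ha
  rw [← e, orderOf_one] at this
  omega

theorem fixed_member {x : G} (hx : orderOf x = 2) : ∃ d ∈ D, Commute x d := by
  classical
  by_contra! hno
  have hinv : ∀ y ∈ D, x * (x * y * x⁻¹) * x⁻¹ = y := fun y _ => by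
    have : x * x = 1 := by rw [← pow_two, ← hx, pow_orderOf_eq_one]
    rw [show x * (x * y * x⁻¹) * x⁻¹ = x * x * y * (x * x)⁻¹ by group, this]
    group
  let σ : Equiv.Perm ↥D :=
    Function.Involutive.toPerm (fun y => ⟨x * y.1 * x⁻¹, hG.2.1 x y.1 y.2⟩) fun y =>
      Subtype.ext (hinv y.1 y.2)
  have := Fintype.ofFinite G
  have hσ : σ * σ = 1 := Equiv.ext fun y => Subtype.ext (hinv y.1 y.2)
  have hfree : ∀ y, σ y ≠ y := fun y e => hno y.1 y.2 (mul_inv_eq_iff_eq_mul.1 (congrArg Subtype.val e))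
  have hodd : Odd (Fintype.card ↥D) := by
    rw [← Nat.card_eq_fintype_card, Nat.card_coe_set_eq, (card_group hG hprim hM).1, Nat.odd_iff]
  obtain ⟨y, hy⟩ := Equiv.Perm.exists_fixed_point_of_prime (p := 2) (n := 1)
    (by rw [Nat.odd_iff] at hodd; omega) (σ := σ) (by rw [pow_one, pow_two, hσ])
  exact hfree y hy

theorem involution_short {x : G} (hx : orderOf x = 2) :
    ∃ m, 1 ≤ m ∧ m ≤ 3 ∧ ∃ l, Fac D m x l := by
  classical
  have hS := hG.1
  have hC := class_of_primitive hG hprim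
  have h2' := pCore_two_bot hG hprim hM
  obtain ⟨d, hd, hxd⟩ := fixed_member hG hprim hM hx
  obtain ⟨h1, h2, h3⟩ := img22 hG hprim hM hd
  have hB := below hG hprim hM
  have hxH : x ∈ H D d := by
    rw [← centralizer_member hG hprim hM hd]
    exact Subgroup.mem_centralizer_singleton_iff.2 hxd.eq
  have hxx : x * x = 1 := by rw [← pow_two, ← hx, pow_orderOf_eq_one]
  have hx1 : x ≠ 1 := fun e => by rw [e, orderOf_one] at hx; omega
  set π := QuotientGroup.mk' (Subgroup.center ↥(H D d))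
  set X : ↥(H D d) := ⟨x, hxH⟩
  have cases' : ∀ y : ↥(H D d), π y = 1 → (y : G) = 1 ∨ (y : G) = d := fun y hy =>
    hB.centre d hd y y.2 fun z hz => commute_of_mem_center ((QuotientGroup.eq_one_iff _).1 hy) hz
  by_cases hX1 : π X = 1
  · rcases cases' X hX1 with e | e
    · exact absurd e hx1
    · exact ⟨1, le_rfl, by norm_num, [d], by simp, rfl, by simp [hd], by simp, by simpa using e.symm⟩
  obtain ⟨m, hm1, hm3, l, hl⟩ := Fischer3Tv.involution_short h1 h2 h3 (x := π X)
    (orderOf_eq_prime (by rw [pow_two, ← map_mul, show X * X = 1 from Subtype.ext hxx, map_one]) hX1)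
  -- lifts of factorisations
  have lift : ∀ {n : ℕ} {j} {l : List (↥(H D d) ⧸ Subgroup.center ↥(H D d))},
      Fischer3Tv.IsFac (img D d) n j l → ∃ M : List ↥(H D d), M.map π = l ∧
        Fac D n (M.prod : G) (M.map Subtype.val) ∧ ∀ a ∈ M, (a : G) ∈ perp D d := by
    intro n j l hl
    choose f hfm hfe using fun m (hm : m ∈ img D d) =>
      (show ∃ y : ↥(H D d), (y : G) ∈ perp D d ∧ π y = m from hm)
    set M := l.pmap f hl.2.2.1 with hMdef
    have hMπ : M.map π = l := by
      rw [hMdef, List.map_pmap]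
      simp only [hfe]
      exact (List.pmap_eq_map (f := fun x => x) hl.2.2.1).trans (List.map_id _)
    have hMp : ∀ a ∈ M, (a : G) ∈ perp D d := by
      intro a ha
      obtain ⟨z, hz, rfl⟩ := List.mem_pmap.1 ha
      exact hfm z (hl.2.2.1 z hz)
    refine ⟨M, hMπ, ⟨List.Nodup.map Subtype.val_injective (List.Nodup.of_map π (hMπ ▸ hl.1)),
      by simp [hMdef, hl.2.1], ?_, ?_, ?_⟩, hMp⟩
    · intro a ha
      obtain ⟨z, hz, rfl⟩ := List.mem_map.1 ha
      exact (hMp z hz).1
    · intro a ha b hb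
      obtain ⟨z, hz, rfl⟩ := List.mem_map.1 ha
      obtain ⟨z', hz', rfl⟩ := List.mem_map.1 hb
      refine (bar_commute hS (hMp z hz) (hMp z' hz')).1 ?_
      exact hl.2.2.2.1 (π z) (hMπ ▸ List.mem_map_of_mem hz) (π z') (hMπ ▸ List.mem_map_of_mem hz')
    · rw [← Subgroup.coe_subtype, map_list_prod]
  obtain ⟨M, hMπ, hMf, hMp⟩ := lift hl
  have hMsq : (M.prod : G) * M.prod = 1 := by
    rw [← hMf.2.2.2.2]; exact prod_sq hS hMf.2.2.1 hMf.2.2.2.1
  have hcase : x * (M.prod : G) = 1 ∨ x * (M.prod : G) = d := cases' (X * M.prod) (by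
    rw [map_mul, map_list_prod, hMπ, hl.2.2.2.2, ← map_mul, show X * X = 1 from Subtype.ext hxx, map_one])
  rcases hcase with e | e
  · exact ⟨m, hm1, hm3, _, (show x = (M.prod : G) from mul_right_cancel (b := (M.prod : G))
      (by rw [e, hMsq])) ▸ hMf⟩
  have hxl : x = d * (M.prod : G) := by
    calc x = x * (M.prod : G) * (M.prod : G) := by rw [mul_assoc, hMsq, mul_one]
      _ = d * (M.prod : G) := congrArg (· * (M.prod : G)) e
  by_cases h2m : m ≤ 2
  · refine ⟨m + 1, by omega, by omega, d :: M.map Subtype.val, ?_, by rw [List.length_cons, hMf.2.1],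
      List.forall_mem_cons.2 ⟨hd, hMf.2.2.1⟩, ?_, ?_⟩
    · refine List.nodup_cons.2 ⟨fun h => ?_, hMf.1⟩
      obtain ⟨z, hz, e⟩ := List.mem_map.1 h
      exact (hMp z hz).2.1 e
    · intro a ha b hb
      rcases List.mem_cons.1 ha with rfl | ha <;> rcases List.mem_cons.1 hb with rfl | hb
      · exact Commute.refl _
      · obtain ⟨z, hz, rfl⟩ := List.mem_map.1 hb; exact (hMp z hz).2.2
      · obtain ⟨z, hz, rfl⟩ := List.mem_map.1 ha; exact (hMp z hz).2.2.symm
      · exact hMf.2.2.2.1 a ha b hb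
    · rw [List.prod_cons, hMf.2.2.2.2, hxl]
  obtain rfl : m = 3 := by omega
  obtain ⟨l₂, hl₂, hdis, -⟩ := Fischer3Tv.two_triples h1 h2 h3 hl
  obtain ⟨N, hNπ, hNf, hNp⟩ := lift hl₂
  rcases cases' (M.prod * N.prod) (by
      rw [map_mul, map_list_prod, map_list_prod, hMπ, hNπ, hl.2.2.2.2, hl₂.2.2.2.2, ← map_mul,
        show X * X = 1 from Subtype.ext hxx, map_one]) with e' | e'
  · exfalso
    have e'' : (M.prod : G) * (N.prod : G) = 1 := e'
    have hNj : Fac D 3 (M.prod : G) (N.map Subtype.val) :=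
      (show (N.prod : G) = M.prod from (mul_left_cancel (a := (M.prod : G)) (hMsq.trans e''.symm)).symm) ▸ hNf
    refine no_six' hG hprim hM (hMf.rel hS le_rfl hNj fun a ha ha' => ?_)
      (by rw [List.length_append, hMf.2.1, hNf.2.1])
    obtain ⟨z, hz, rfl⟩ := List.mem_map.1 ha
    obtain ⟨z', hz', e3⟩ := List.mem_map.1 ha'
    rw [Subtype.ext e3] at hz'
    exact hdis (π z) (hNπ ▸ List.mem_map_of_mem hz') (hMπ ▸ List.mem_map_of_mem hz)
  · refine ⟨3, by norm_num, le_rfl, N.map Subtype.val, ?_⟩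
    have e'' : (M.prod : G) * (N.prod : G) = d := e'
    have hcm : d * (M.prod : G) = (M.prod : G) * d := by
      rw [← hMf.2.2.2.2]
      exact (Commute.list_prod_right (M.map Subtype.val) d fun z hz => by
        obtain ⟨z, hz', rfl⟩ := List.mem_map.1 hz; exact (hMp z hz').2.2).eq
    have : x = (N.prod : G) := by
      calc x = (M.prod : G) * d := hxl.trans hcm
        _ = (M.prod : G) * ((M.prod : G) * (N.prod : G)) := congrArg ((M.prod : G) * ·) e''.symm
        _ = (N.prod : G) := by rw [← mul_assoc, hMsq, one_mul]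
    exact this ▸ hNf

end Cfsg.Agent.Fischer3Up
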