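import Cfsg.Agent.Lib.Fischer3Up.M24
import Cfsg.Agent.Lib.Fischer3Tv.FixAut

/-!
# The involutions of a group of type M24
-/

set_option autoImplicit false
set_option linter.unusedSectionVars false
set_option linter.style.haveILetI false

namespace Cfsg.Agent.Fischer3Up

open Cfsg ClassK Fischer3 Fischer3Rel Fischer3Srg

universe u

variable {G : Type u} [Group G] [Finite G] {D : Set G}
variable (hG : IsThreeTranspositionGroup D) (hprim : IsPrimitiveUnderConj D) (hM : IsOfTypeM24 G D)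
  (hK : CoreFree D)
include hG hprim hM hK

/-- Every involution fixes a member. -/
theorem fixed_member24 {x : G} (hx : x * x = 1) : ∃ d ∈ D, Commute x d := by
  by_contra! hno
  have hS := hG.1
  have hC := class_of_primitive hG hprim
  have h2' := pCore_two_bot4 hG hprim hM
  have hxi : x⁻¹ = x := inv_eq_of_mul_eq_one_right hx
  have hxx : ∀ z : G, x * (x * z * x⁻¹) * x⁻¹ = z := fun z => by
    rw [show x * (x * z * x⁻¹) * x⁻¹ = x * x * z * (x * x)⁻¹ by group, hx, one_mul, inv_one, mul_one]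
  obtain ⟨y, hy, -⟩ := hprim.2.1
  set y' := x * y * x⁻¹ with hy'def
  have hy' : y' ∈ D := hG.2.1 x y hy
  have hyy : Commute y y' := by
    by_contra hn
    refine hno (y * y' * y) (by simpa [tt_inv hS hy] using hG.2.1 y y' hy') (mul_inv_eq_iff_eq_mul.1 ?_)
    rw [show x * (y * y' * y) * x⁻¹ = x * y * x⁻¹ * (x * y' * x⁻¹) * (x * y * x⁻¹) by group,
      hy'def, hxx, ← hy'def]
    exact (braid hS hy hy' hn).symm
  have hpy : y' ∈ perp D y := ⟨hy', fun e => hno y hy (mul_inv_eq_iff_eq_mul.1 e), hyy⟩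
  obtain ⟨h1, h2, h3⟩ := img23 hG hprim hM hK hy
  set e := bar D y y' hpy
  have he : e ∈ img D y := ⟨_, hpy, rfl⟩
  obtain ⟨i1, i2, i3⟩ := img22 h1 h2 h3 he
  have hXC := class_of_primitive h1 h2
  have hX2 := pCore_two_bot h1 h2 h3
  set S := perp D y ∩ perp D y'
  set Γ := Subgroup.closure S
  have hΓH : Γ ≤ H D y := Subgroup.closure_mono Set.inter_subset_left
  let ρ₀ : ↥Γ →* ↥(H D y) ⧸ Subgroup.center ↥(H D y) :=
    (QuotientGroup.mk' _).comp (Subgroup.inclusion hΓH)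
  have hmap : ∀ g : ↥Γ, ρ₀ g ∈ H (img D y) e := by
    rintro ⟨g, hg⟩
    induction hg using Subgroup.closure_induction with
    | mem v hv =>
      exact Subgroup.subset_closure ((bar_perp hC h2' hy hpy hv.1).2 hv.2)
    | one => exact (map_one ρ₀).symm ▸ one_mem (H (img D y) e)
    | mul a b ha hb iha ihb =>
      rw [show (⟨a * b, mul_mem ha hb⟩ : ↥Γ) = ⟨a, ha⟩ * ⟨b, hb⟩ from rfl, map_mul]
      exact mul_mem iha ihb
    | inv a ha iha =>
      rw [show (⟨a⁻¹, inv_mem ha⟩ : ↥Γ) = ⟨a, ha⟩⁻¹ from rfl, map_inv]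
      exact inv_mem iha
  let ρ : ↥Γ →* ↥(H (img D y) e) := ρ₀.codRestrict _ hmap
  have hρ : Function.Surjective ρ := by
    have hle : H (img D y) e ≤ ρ₀.range := by
      refine (Subgroup.closure_le _).2 fun m hm => ?_
      obtain ⟨⟨z, hz'⟩, hz, rfl⟩ := hm.1
      exact ⟨⟨z, Subgroup.subset_closure ⟨hz, (bar_perp hC h2' hy hpy hz).1 hm⟩⟩, rfl⟩
    rintro ⟨m, hm⟩
    obtain ⟨g, hg⟩ := hle hm
    exact ⟨g, Subtype.ext hg⟩
  let π₂ : ↥Γ →* ↥(H (img D y) e) ⧸ Subgroup.center ↥(H (img D y) e) := (QuotientGroup.mk' _).comp ρ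
  have hπ₂ : Function.Surjective π₂ := (QuotientGroup.mk'_surjective _).comp hρ
  have hker : Subgroup.center ↥Γ = π₂.ker := by
    ext g
    rw [MonoidHom.mem_ker]
    constructor
    · intro hg
      refine (QuotientGroup.eq_one_iff _).2 (mem_center_closure _ fun m hm => ?_)
      obtain ⟨⟨z, hz'⟩, hz, rfl⟩ := hm.1
      exact (show Commute (Subgroup.inclusion hΓH g) ⟨z, hz'⟩ from Subtype.ext
        (commute_of_mem_center hg ⟨hz, (bar_perp hC h2' hy hpy hz).1 hm⟩).eq).map (QuotientGroup.mk' _)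
    · intro hg
      refine mem_center_closure g fun z hz => ?_
      have hc : Commute (ρ₀ g) (bar D y z hz.1) :=
        commute_of_mem_center ((QuotientGroup.eq_one_iff _).1 hg) ((bar_perp hC h2' hy hpy hz.1).2 hz.2)
      have hkz := conj_perp hG (hΓH g.2) hz.1
      have e' : bar D y _ hkz = bar D y z hz.1 := mul_inv_eq_iff_eq_mul.2 hc.eq
      exact mul_inv_eq_iff_eq_mul.1 (bar_inj hC h2' hy hkz hz.1 e')
  have hSx : ∀ z ∈ S, x * z * x⁻¹ ∈ S := fun z hz => by
    have e1 := perp_conj hG x hz.1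
    have e2 := perp_conj hG x hz.2
    rw [hy'def, hxx] at e2
    rw [← hy'def] at e1
    exact ⟨e2, e1⟩
  have hΓx : Γ.map (MulAut.conj x).toMonoidHom = Γ := by
    rw [MonoidHom.map_closure]
    refine congrArg Subgroup.closure (Set.ext fun z => ⟨?_, fun hz => ⟨_, hSx z hz, hxx z⟩⟩)
    rintro ⟨w, hw, rfl⟩
    exact hSx w hw
  let cx : ↥Γ ≃* ↥Γ :=
    (Γ.equivMapOfInjective (MulAut.conj x).toMonoidHom (MulAut.conj x).injective).trans
      (MulEquiv.subgroupCongr hΓx)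
  have hcx : (Subgroup.center ↥Γ).map cx.toMonoidHom = Subgroup.center ↥Γ := by
    ext g
    constructor
    · rintro ⟨a, ha, rfl⟩
      exact MulEquivClass.apply_mem_center cx ha
    · intro hg
      exact ⟨cx.symm g, MulEquivClass.apply_mem_center cx.symm hg, cx.apply_symm_apply g⟩
  let eQ : ↥Γ ⧸ Subgroup.center ↥Γ ≃* ↥(H (img D y) e) ⧸ Subgroup.center ↥(H (img D y) e) :=
    (QuotientGroup.quotientMulEquivOfEq hker).trans (QuotientGroup.quotientKerEquivOfSurjective π₂ hπ₂)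
  let φ : MulAut (↥(H (img D y) e) ⧸ Subgroup.center ↥(H (img D y) e)) :=
    (eQ.symm.trans (QuotientGroup.congr _ _ cx hcx)).trans eQ
  have hφ : ∀ g : ↥Γ, φ (π₂ g) = π₂ (cx g) := fun g => by
    show eQ (QuotientGroup.congr _ _ cx hcx (eQ.symm (π₂ g))) = π₂ (cx g)
    rw [show eQ.symm (π₂ g) = QuotientGroup.mk g from eQ.symm_apply_eq.2 rfl]
    rfl
  obtain ⟨m, hm, hφm⟩ := Fischer3Tv.exists_fixed i1 i2 i3 φ fun q => by
    obtain ⟨g, rfl⟩ := hπ₂ q
    rw [hφ, hφ]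
    exact congrArg π₂ (Subtype.ext (hxx g))
  obtain ⟨⟨w, hwH⟩, hw, rfl⟩ := hm
  obtain ⟨⟨z, hz'⟩, hz, rfl⟩ := hw.1
  have hzS : z ∈ S := ⟨hz, (bar_perp hC h2' hy hpy hz).1 hw⟩
  set g : ↥Γ := ⟨z, Subgroup.subset_closure hzS⟩
  have h4 : φ (π₂ g) = π₂ g := hφm
  rw [hφ] at h4
  have hw2 := (bar_perp hC h2' hy hpy (hSx z hzS).1).2 (hSx z hzS).2
  have h5 : bar (img D y) e _ hw2 = bar (img D y) e _ hw := h4
  have h6 := bar_inj hXC hX2 he hw2 hw h5
  exact hno z hz.1 (mul_inv_eq_iff_eq_mul.1 (bar_inj hC h2' hy (hSx z hzS).1 hz h6))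

/-- Every involution is a product of at most four commuting members. -/
theorem involution_short24 {x : G} (hx : orderOf x = 2) :
    ∃ m, 1 ≤ m ∧ m ≤ 4 ∧ ∃ l, Fac D m x l := by
  classical
  have hS := hG.1
  have hxx : x * x = 1 := by rw [← pow_two, ← hx, pow_orderOf_eq_one]
  have hx1 : x ≠ 1 := fun e => by rw [e, orderOf_one] at hx; omega
  obtain ⟨d, hd, hxd⟩ := fixed_member24 hG hprim hM hK hxx
  obtain ⟨h1, h2, h3⟩ := img23 hG hprim hM hK hd
  have hB := below24 hG hprim hM hK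
  have hxH : x ∈ H D d := by
    rw [← centralizer_member24 hG hprim hM hK hd]
    exact Subgroup.mem_centralizer_singleton_iff.2 hxd.eq
  set π := QuotientGroup.mk' (Subgroup.center ↥(H D d))
  set X : ↥(H D d) := ⟨x, hxH⟩
  have cases' : ∀ y : ↥(H D d), π y = 1 → (y : G) = 1 ∨ (y : G) = d := fun y hy =>
    hB.centre d hd y y.2 fun z hz => commute_of_mem_center ((QuotientGroup.eq_one_iff _).1 hy) hz
  by_cases hX1 : π X = 1
  · rcases cases' X hX1 with e | e
    · exact absurd e hx1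
    · exact ⟨1, le_rfl, by norm_num, [d], by simp, rfl, by simp [hd], by simp, by simpa using e.symm⟩
  obtain ⟨m, hm1, hm3, l, hl⟩ := involution_short h1 h2 h3 (x := π X)
    (orderOf_eq_prime (by rw [pow_two, ← map_mul, show X * X = 1 from Subtype.ext hxx, map_one]) hX1)
  choose f hfm hfe using fun m (hm : m ∈ img D d) =>
    (show ∃ y : ↥(H D d), (y : G) ∈ perp D d ∧ π y = m from hm)
  set M := l.pmap f hl.2.2.1 with hMdef
  have hMπ : M.map π = l := by
    rw [hMdef, List.map_pmap]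
    simp only [hfe]
    exact (List.pmap_eq_map (f := fun x => x) hl.2.2.1).trans (List.map_id _)
  have hMp : ∀ a ∈ M, (a : G) ∈ perp D d := by
    intro a ha
    obtain ⟨z, hz, rfl⟩ := List.mem_pmap.1 ha
    exact hfm z (hl.2.2.1 z hz)
  have hMf : Fac D m (M.prod : G) (M.map Subtype.val) := by
    refine ⟨List.Nodup.map Subtype.val_injective (List.Nodup.of_map π (hMπ ▸ hl.1)),
      by simp [hMdef, hl.2.1], ?_, ?_, ?_⟩
    · intro a ha
      obtain ⟨z, hz, rfl⟩ := List.mem_map.1 ha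
      exact (hMp z hz).1
    · intro a ha b hb
      obtain ⟨z, hz, rfl⟩ := List.mem_map.1 ha
      obtain ⟨z', hz', rfl⟩ := List.mem_map.1 hb
      refine (bar_commute hS (hMp z hz) (hMp z' hz')).1 ?_
      exact hl.2.2.2.1 (π z) (hMπ ▸ List.mem_map_of_mem hz) (π z') (hMπ ▸ List.mem_map_of_mem hz')
    · rw [← Subgroup.coe_subtype, map_list_prod]
  have hMsq : (M.prod : G) * M.prod = 1 := by
    rw [← hMf.2.2.2.2]; exact prod_sq hS hMf.2.2.1 hMf.2.2.2.1
  rcases cases' (X * M.prod) (by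
    rw [map_mul, map_list_prod, hMπ, hl.2.2.2.2, ← map_mul, show X * X = 1 from Subtype.ext hxx,
      map_one]) with e | e
  · exact ⟨m, hm1, by omega, _, (show x = (M.prod : G) from mul_right_cancel (b := (M.prod : G))
      ((show x * (M.prod : G) = 1 from e).trans hMsq.symm)) ▸ hMf⟩
  have hxl : x = d * (M.prod : G) := by
    calc x = x * (M.prod : G) * (M.prod : G) := by rw [mul_assoc, hMsq, mul_one]
      _ = d * (M.prod : G) := congrArg (· * (M.prod : G)) e
  refine ⟨m + 1, by omega, by omega, d :: M.map Subtype.val, ?_, by rw [List.length_cons, hMf.2.1],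
    List.forall_mem_cons.2 ⟨hd, hMf.2.2.1⟩, ?_, ?_⟩
  · refine List.nodup_cons.2 ⟨fun h => ?_, hMf.1⟩
    obtain ⟨z, hz, e⟩ := List.mem_map.1 h
    exact (hMp z hz).2.1 e
  · intro a ha b hb
    rcases List.mem_cons.1 ha with rfl | ha <;> rcases List.mem_cons.1 hb with rfl | hb
    · exact Commute.refl _
    · obtain ⟨z, hz, rfl⟩ := List.mem_map.1 hb; exact (hMp z hz).2.2
    · obtain ⟨z, hz, rfl⟩ := List.mem_map.1 ha; exact (hMp z hz).2.2.symm
    · exact hMf.2.2.2.1 a ha b hb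
  · rw [List.prod_cons, hMf.2.2.2.2, hxl]

theorem no_rel24 {L : List G} (hL : IsRel D L) {n : ℕ} (h4 : 4 ≤ n) (h7 : n ≤ 7) (hlen : L.length = n) :
    False := by
  have hC := class_of_primitive hG hprim
  have h2' := pCore_two_bot4 hG hprim hM
  obtain ⟨w, hw, -⟩ := hprim.2.1
  obtain ⟨h1, h2, h3⟩ := img23 hG hprim hM hK hw
  interval_cases n
  · obtain ⟨a, ha, b, hb, hne, hV⟩ := relV_of_four hG.1 hL hlen
    have h := relV_mem_pCore hG ha hb hV
    rw [h2', Subgroup.mem_bot] at h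
    exact hne (by rw [eq_inv_of_mul_eq_one_left h, tt_inv hG.1 hb])
  all_goals obtain ⟨L', hL', hlen'⟩ := descend hC h2' hw hL hlen
  · exact no_four h1 h2 h3 hL' hlen'
  · exact m23_five (class_of_primitive h1 h2) (pCore_two_bot h1 h2 h3) h3 hL' hlen'
  · exact no_six' h1 h2 h3 hL' hlen'

theorem count_unique3 {m m' : ℕ} {x : G} (hm : 1 ≤ m) (hm' : m ≤ 3) (hn : 1 ≤ m') (hn' : m' ≤ 3)
    {l l' : List G} (h : Fac D m x l) (h' : Fac D m' x l') : m = m' := by
  have hC := class_of_primitive hG hprim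
  have h2 := pCore_two_bot4 hG hprim hM
  refine fac_unique hG.1 (fun a ha b hb c hc e => ?_)
    (fun L hL hl => no_rel24 hG hprim hM hK hL (n := 4) le_rfl (by norm_num) hl)
    (fun L hL hl => no_rel24 hG hprim hM hK hL (n := 5) (by norm_num) (by norm_num) hl) hm hm' hn hn' h h'
  have hz : bar D a b hb * bar D a c hc = 1 := by
    rw [← QuotientGroup.mk_mul]
    exact (QuotientGroup.eq_one_iff _).2 (mem_center_closure _ fun y hy => by
      show Commute (b * c) y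
      rw [e]; exact hy.2.2)
  have h1 := (img23 hG hprim hM hK ha).1
  have hbc : b = c := bar_inj hC h2 ha hb hc (by
    rw [eq_inv_of_mul_eq_one_left hz, tt_inv h1.1 ⟨_, hc, rfl⟩])
  subst hbc
  rw [tt_mul_self hG.1 hb.1] at e
  have := hG.1.1 a ha
  rw [← e, orderOf_one] at this
  omega

theorem four_ne {m' : ℕ} {x : G} (hn : 1 ≤ m') (hn' : m' ≤ 3) {l l' : List G} (h : Fac D 4 x l)
    (h' : Fac D m' x l') : False := by
  classical
  have hS := hG.1
  by_cases hdis : ∀ a ∈ l, a ∉ l'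
  · exact no_rel24 hG hprim hM hK (h.rel hS hn' h' hdis) (n := 4 + m') (by omega) (by omega)
      (by rw [List.length_append, h.2.1, h'.2.1])
  push Not at hdis
  obtain ⟨a, ha, ha'⟩ := hdis
  obtain ⟨k, rfl⟩ : ∃ k, m' = k + 1 := ⟨m' - 1, by omega⟩
  have e3 := h.erase hS ha
  have e' := h'.erase hS ha'
  rcases Nat.eq_zero_or_pos k with rfl | hk
  · have h1 : a * x = 1 := by
      rw [← e'.2.2.2.2, List.eq_nil_of_length_eq_zero e'.2.1, List.prod_nil]
    obtain ⟨p, q, r, e, hp, hq, hr, hpr⟩ := e3.three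
    have h2 : Fac D 2 r [p, q] := by
      have e2 : p * q = r := by rw [eq_inv_of_mul_eq_one_left (hpr.trans h1), tt_inv hS hr.1.1]
      rw [← e2]
      exact fac_two hp hq
    have := count_unique3 hG hprim hM hK (m := 1) (m' := 2) le_rfl (by norm_num) (by norm_num) (by norm_num)
      (l := [r]) ⟨by simp, rfl, by simp [hr.1.1], by simp, by simp⟩ h2
    omega
  · have := count_unique3 hG hprim hM hK (by norm_num) le_rfl hk (by omega) e3 e'
    omega

theorem count_unique24 {m m' : ℕ} {x : G} (hm : 1 ≤ m) (hm' : m ≤ 4) (hn : 1 ≤ m') (hn' : m' ≤ 4)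
    {l l' : List G} (h : Fac D m x l) (h' : Fac D m' x l') : m = m' := by
  rcases Nat.lt_or_ge m 4 with a | a <;> rcases Nat.lt_or_ge m' 4 with b | b
  · exact count_unique3 hG hprim hM hK hm (by omega) hn (by omega) h h'
  · obtain rfl : m' = 4 := by omega
    exact (four_ne hG hprim hM hK hm (by omega) h' h).elim
  · obtain rfl : m = 4 := by omega
    exact (four_ne hG hprim hM hK hn (by omega) h h').elim
  · omega

theorem order_two24 {m : ℕ} (hm : 1 ≤ m) (hm' : m ≤ 4) {x : G} {l : List G} (h : Fac D m x l) :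
    orderOf x = 2 := by
  rcases Nat.lt_or_ge m 4 with a | a
  · exact fac_order_two hG.1 (fun {_ _ _} a b c e {_ _} h h' =>
      count_unique3 hG hprim hM hK a b c e h h') hm (by omega) h
  · obtain rfl : m = 4 := by omega
    refine orderOf_eq_prime (by rw [pow_two, ← h.2.2.2.2]; exact prod_sq hG.1 h.2.2.1 h.2.2.2.1) fun e => ?_
    exact no_rel24 hG hprim hM hK ⟨h.1, h.2.2.1, h.2.2.2.1, h.2.2.2.2.trans e⟩ le_rfl (by norm_num) h.2.1

theorem quad_counts {d b x y : G} (hd : d ∈ D) (hb : b ∈ perp D d) (hx : x ∈ perp D d ∩ perp D b)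
    (hy : y ∈ perp D d ∩ perp D b) :
    (y ∈ perp D x → (perp D d ∩ perp D b ∩ perp D x ∩ perp D y).ncard = 180) ∧
      (¬ Commute x y → (perp D d ∩ perp D b ∩ perp D x ∩ perp D y).ncard = 126) := by
  obtain ⟨h1, h2, h3⟩ := img23 hG hprim hM hK hd
  have hC := class_of_primitive hG hprim
  have h2' := pCore_two_bot4 hG hprim hM
  have hbx := (bar_perp hC h2' hd hb hx.1).2 hx.2
  have hby := (bar_perp hC h2' hd hb hy.1).2 hy.2
  have key : (perp D d ∩ perp D b ∩ perp D x ∩ perp D y).ncard =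
      (perp (img D d) (bar D d b hb) ∩ perp (img D d) (bar D d x hx.1) ∩
        perp (img D d) (bar D d y hy.1)).ncard :=
    ncard_bar hC h2' hd _ _ (fun z hz => hz.1.1.1) (fun z hz => hz.1.1.1) fun z hz =>
      ⟨fun h => ⟨⟨⟨hz, (bar_perp hC h2' hd hb hz).1 h.1.1⟩, (bar_perp hC h2' hd hx.1 hz).1 h.1.2⟩,
          (bar_perp hC h2' hd hy.1 hz).1 h.2⟩,
        fun h => ⟨⟨(bar_perp hC h2' hd hb hz).2 h.1.1.2, (bar_perp hC h2' hd hx.1 hz).2 h.1.2⟩,
          (bar_perp hC h2' hd hy.1 hz).2 h.2⟩⟩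
  refine ⟨fun hxy => ?_, fun hxy => ?_⟩ <;> rw [key]
  · exact (below h1 h2 h3).loc.trip _ ⟨_, hb, rfl⟩ _ hbx _ ⟨hby, (bar_perp hC h2' hd hx.1 hy.1).2 hxy⟩
  · exact (below h1 h2 h3).loc.mix _ ⟨_, hb, rfl⟩ _ hbx _ hby
      fun h => hxy ((bar_commute hG.1 hx.1 hy.1).1 h)

theorem fac_conj24 {m : ℕ} (hm : 1 ≤ m) (hm' : m ≤ 4) {x y : G} {l l' : List G} (h : Fac D m x l)
    (h' : Fac D m y l') : IsConj x y := by
  have hC := class_of_primitive hG hprim
  have hL := (below24 hG hprim hM hK).loc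
  rcases Nat.lt_or_ge m 4 with a | a
  · exact Fischer3Srg.fac_conj hC hL (by norm_num) (by norm_num) hm (by omega) h h'
  obtain rfl : m = 4 := by omega
  have dest : ∀ {x : G} {l : List G}, Fac D 4 x l → ∃ a b c e : G, a ∈ D ∧ b ∈ perp D a ∧
      c ∈ perp D a ∩ perp D b ∧ e ∈ perp D a ∩ perp D b ∩ perp D c ∧ a * b * c * e = x := by
    rintro x l ⟨hn, hlen, hmem, hcm, hp⟩
    obtain ⟨a, T, rfl⟩ := List.exists_cons_of_length_eq_add_one hlen
    obtain ⟨b, c, e, rfl⟩ := List.length_eq_three.1 (show T.length = 3 by simpa using hlen)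
    simp only [List.nodup_cons, List.mem_cons, List.not_mem_nil, or_false, not_or, List.nodup_nil,
      not_false_eq_true, and_true] at hn
    obtain ⟨⟨nab, nac, nae⟩, ⟨nbc, nbe⟩, nce⟩ := hn
    refine ⟨a, b, c, e, hmem a (by simp), ⟨hmem b (by simp), Ne.symm nab, hcm a (by simp) b (by simp)⟩,
      ⟨⟨hmem c (by simp), Ne.symm nac, hcm a (by simp) c (by simp)⟩, hmem c (by simp), Ne.symm nbc,
        hcm b (by simp) c (by simp)⟩,
      ⟨⟨⟨hmem e (by simp), Ne.symm nae, hcm a (by simp) e (by simp)⟩, hmem e (by simp), Ne.symm nbe,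
        hcm b (by simp) e (by simp)⟩, hmem e (by simp), Ne.symm nce, hcm c (by simp) e (by simp)⟩, ?_⟩
    rw [← hp]; simp [mul_assoc]
  obtain ⟨a, b, c, e, ha, hb, hc, he, rfl⟩ := dest h
  obtain ⟨a', b', c', e', ha', hb', hc', he', rfl⟩ := dest h'
  obtain ⟨g, ga, gb, gc⟩ := triple_trans hC hL (by norm_num) (by norm_num) ha hb hc ha' hb' hc'
  have h1 : g * e * g⁻¹ ∈ perp D a' ∩ perp D b' ∩ perp D c' :=
    ⟨⟨ga ▸ perp_conj hG g he.1.1, gb ▸ perp_conj hG g he.1.2⟩, gc ▸ perp_conj hG g he.2⟩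
  obtain ⟨k, hk, ek⟩ := transitive_of_few hG.1 (S := perp D a' ∩ perp D b' ∩ perp D c') (fun _ h => h.1.1.1)
    (hL.trip a' ha' b' hb' c' hc') (fun z hz =>
      (quad_counts hG hprim hM hK ha' hb' hc' hz.1).1 hz.2) (by norm_num : 2 * 180 + 2 < 693) h1 he'
  have hkf : ∀ u : G, perp D a' ∩ perp D b' ∩ perp D c' ⊆ perp D u → k * u * k⁻¹ = u := fun u hu =>
    conj_eq_of_commute (commute_of_mem_H (Subgroup.closure_mono hu hk))
  refine isConj_iff.2 ⟨k * g, ?_⟩
  calc k * g * (a * b * c * e) * (k * g)⁻¹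
      = k * (g * a * g⁻¹) * k⁻¹ * (k * (g * b * g⁻¹) * k⁻¹) * (k * (g * c * g⁻¹) * k⁻¹) *
          (k * (g * e * g⁻¹) * k⁻¹) := by group
    _ = a' * b' * c' * e' := by
        rw [ga, gb, gc, ek, hkf a' fun z hz => hz.1.1, hkf b' fun z hz => hz.1.2, hkf c' fun z hz => hz.2]

theorem exists_fac24 {m : ℕ} (hm : 1 ≤ m) (hm' : m ≤ 4) : ∃ x l, Fac D m x l := by
  obtain ⟨d, hd, -⟩ := hprim.2.1
  have hL := (below24 hG hprim hM hK).loc
  rcases Nat.lt_or_ge m 4 with a | a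
  · exact exists_fac hL (by norm_num) (by norm_num) hd hm (by omega)
  obtain rfl : m = 4 := by omega
  obtain ⟨b, hb⟩ := nonempty_of_ncard (hL.size d hd) (by norm_num)
  obtain ⟨c, hc⟩ := nonempty_of_ncard (hL.pair d hd b hb) (by norm_num)
  obtain ⟨e, he⟩ := nonempty_of_ncard (hL.trip d hd b hb c hc) (by norm_num)
  refine ⟨d * b * c * e, [d, b, c, e], ?_, rfl, by simp [hd, hb.1, hc.1.1, he.1.1.1], ?_,
    by simp [mul_assoc]⟩
  · simp [hb.2.1.symm, hc.1.2.1.symm, hc.2.2.1.symm, he.1.1.2.1.symm, he.1.2.2.1.symm, he.2.2.1.symm]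
  · simp [hb.2.2, hb.2.2.symm, hc.1.2.2, hc.1.2.2.symm, hc.2.2.2, hc.2.2.2.symm, he.1.1.2.2,
      he.1.1.2.2.symm, he.1.2.2.2, he.1.2.2.2.symm, he.2.2.2, he.2.2.2.symm]

/-- The members form the only generating class of 3-transpositions. -/
theorem unique_class24 {D' : Set G} (hC' : IsThreeTranspositionClass D') : D' = D := by
  have hC := class_of_primitive hG hprim
  have hG' := class_group hC'
  have hL := (below24 hG hprim hM hK).loc
  obtain ⟨x, hx, -⟩ := hC'.2.1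
  obtain ⟨m, h1, h4, l, hl⟩ := involution_short24 hG hprim hM hK (hC'.1.1 x hx)
  rcases Nat.lt_or_ge m 4 with a | a
  · exact class_eq_of_mem hC hC' (short_mem hC hL (by norm_num) (by norm_num)
      (mu_eq24 hG hprim hM hK) (by norm_num) (by norm_num) hC' h1 (by omega : m ≤ 3) hx hl) hx
  obtain rfl : m = 4 := by omega
  exfalso
  obtain ⟨c, hc, -⟩ := hprim.2.1
  obtain ⟨e, he⟩ := nonempty_of_ncard (hL.size c hc) (by norm_num)
  obtain ⟨z₀, hz₀⟩ := nonempty_of_ncard (hL.pair c hc e he) (by norm_num)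
  obtain ⟨a, ha, A, hA, b, hb, B, hB, nab, nAB, cab, cAB, caB, naA, nAb, nbB⟩ :=
    exists_path (D := D) (S := perp D c ∩ perp D e) (fun z hz => hz.1.1) ⟨z₀, hz₀⟩
      (fun z hz => hL.trip c hc e he z hz)
      (fun z hz w hw => (quad_counts hG hprim hM hK hc he hz hw.1).1 hw.2)
      (fun z hz w hw hn => (quad_counts hG hprim hM hK hc he hz hw).2 hn)
      (by norm_num : 180 + 126 + 1 < 693)
  obtain ⟨n2, n3⟩ := path_order hG.1 ha.1.1 hA.1.1 hb.1.1 hB.1.1 nab cab cAB caB naA nAb nbB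
  have hfac : ∀ u ∈ perp D c ∩ perp D e, ∀ v ∈ perp D c ∩ perp D e, u ≠ v → Commute u v →
      Fac D 4 (c * e * (u * v)) [c, e, u, v] := by
    intro u hu v hv huv cuv
    refine ⟨?_, rfl, by simp [hc, he.1, hu.1.1, hv.1.1], ?_, by simp [mul_assoc]⟩
    · simp [he.2.1.symm, hu.1.2.1.symm, hv.1.2.1.symm, hu.2.2.1.symm, hv.2.2.1.symm, huv]
    · simp [he.2.2, he.2.2.symm, hu.1.2.2, hu.1.2.2.symm, hv.1.2.2, hv.1.2.2.symm, hu.2.2.2,
        hu.2.2.2.symm, hv.2.2.2, hv.2.2.2.symm, cuv, cuv.symm]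
  have hcl : ∀ {u : G} {l' : List G}, Fac D 4 u l' → u ∈ D' := fun {u l'} hu => by
    obtain ⟨g, hg⟩ := isConj_iff.1 (fac_conj24 hG hprim hM hK (by norm_num) le_rfl hl hu)
    exact hg ▸ hG'.2.1 g x hx
  have hce : c * e * (c * e) = 1 := by
    rw [← sq, he.2.2.mul_pow, sq, sq, tt_mul_self hG.1 hc, tt_mul_self hG.1 he.1, one_mul]
  have hcomm : Commute (c * e) (a * b) :=
    ((ha.1.2.2.mul_right hb.1.2.2).mul_left (ha.2.2.2.mul_right hb.2.2.2))
  have heq : c * e * (a * b) * (c * e * (A * B)) = a * b * (A * B) := by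
    rw [hcomm.eq, mul_assoc (a * b) (c * e), ← mul_assoc (c * e) (c * e), hce, one_mul]
  rcases hC'.1.2 _ (hcl (hfac a ha b hb nab cab)) _ (hcl (hfac A hA B hB nAB cAB)) with h | h <;>
    rw [heq] at h
  exacts [n2 h, n3 h]

end Cfsg.Agent.Fischer3Up
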