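import Cfsg.Agent.Lib.Fischer3Tv.Order
import Cfsg.Agent.Lib.Fischer3Srg.Transport

/-!
# The strongly regular graph of a group of type M23
-/

set_option autoImplicit false
set_option linter.unusedSectionVars false
set_option linter.style.haveILetI false

namespace Cfsg.Agent.Fischer3Up

open Cfsg ClassK Fischer3 Fischer3Rel Fischer3Srg

universe u

variable {G : Type u} [Group G] [Finite G] {D : Set G}

theorem between {m : ℤ} (h : 0 ≤ -(m * m) + 1026 * m - 236925) : 351 ≤ m ∧ m ≤ 675 := by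
  refine ⟨?_, ?_⟩ <;> by_contra! h1
  · nlinarith [mul_pos (show (0 : ℤ) < 351 - m by omega) (show (0 : ℤ) < 675 - m by omega)]
  · nlinarith [mul_pos (show (0 : ℤ) < m - 351 by omega) (show (0 : ℤ) < m - 675 by omega)]

theorem variance_arith {m : ℤ} (hm : 0 < m)
    (h : 0 ≤ (3510 - m) * (m * 693 + m * 126 * 180 + m * (m - 1 - 126) * 126 - m * 126 * 126) -
      (m * 693 - m * 126) ^ 2) : 351 ≤ m ∧ m ≤ 675 := by
  refine between (nonneg_of_mul_nonneg_right (a := 126 * m) ?_ (by positivity))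
  linear_combination h

variable (hG : IsThreeTranspositionGroup D) (hprim : IsPrimitiveUnderConj D) (hM : IsOfTypeM23 G D)
include hG hprim hM

theorem exists_perp {d : G} (hd : d ∈ D) : ∃ y, y ∈ perp D d := by
  obtain ⟨-, d₀, hd₀, -, -, -, ⟨-, a, ha, -⟩, -⟩ := hM
  obtain ⟨g, hg⟩ := hprim.1 d₀ hd₀ d hd
  obtain ⟨⟨y, hy'⟩, hy, -⟩ := ha
  exact ⟨g * y * g⁻¹, hg ▸ perp_conj hG g hy⟩

theorem exists_wit : ∃ a ∈ D, ∃ b ∈ D, a ≠ b ∧ Commute a b := by
  obtain ⟨d, hd, -⟩ := hprim.2.1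
  obtain ⟨y, hy⟩ := exists_perp hG hprim hM hd
  exact ⟨d, hd, y, hy.1, hy.2.1.symm, hy.2.2⟩

theorem pCore_two_bot : pCore 2 G = ⊥ :=
  le_bot_iff.1 (hM.1 ▸ (pCores_central_of_primitive hG hprim (exists_wit hG hprim hM)).1)

/-- The perp of each member gives a primitive group of type M22. -/
theorem img22 {w : G} (hw : w ∈ D) : IsThreeTranspositionGroup (img D w) ∧
    IsPrimitiveUnderConj (img D w) ∧ IsOfTypeM22 _ (img D w) := by
  obtain ⟨-, d₀, hd₀, c, -, -, hT, -⟩ := id hM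
  obtain ⟨g, rfl⟩ := hprim.1 d₀ hd₀ w hw
  obtain ⟨e, he⟩ := exists_img_equiv hG g d₀
  have hT' := type22_map e _ hT
  rw [he] at hT'
  refine ⟨img_group (class_of_primitive hG hprim) (pCore_two_bot hG hprim hM) hw, ?_, hT'⟩
  obtain ⟨hZ, a, ha, -, -, -, ⟨F, _, _, hF, ⟨eP⟩⟩, -⟩ := hT'
  haveI := simple_psu hF
  exact img_primitive hG hprim hM.1 hw (exists_perp hG hprim hM hw) hZ ha eP.isSimpleGroup

theorem below : Below D 3510 693 180 126 :=
  below_of_srg (class_of_primitive hG hprim) (pCore_two_bot hG hprim hM) hM.1 hprim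
    (fun _ hd => exists_perp hG hprim hM hd) fun w hw => by
      obtain ⟨h1, h2, h3⟩ := img22 hG hprim hM hw
      exact Fischer3Tv.srg h1 h2 h3

theorem rigid_below : RigidBelow D := by
  intro x hx a ha e he hae g hg hga hge hall
  obtain ⟨h1, h2, h3⟩ := img22 hG hprim hM hx
  have hC := class_of_primitive hG hprim
  set π := QuotientGroup.mk' (Subgroup.center ↥(H D x))
  have hcm : ∀ y (hy : y ∈ perp D x), Commute g y → Commute (π ⟨g, hg⟩) (bar D x y hy) := fun y hy h =>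
    (show Commute (⟨g, hg⟩ : ↥(H D x)) ⟨y, Subgroup.subset_closure hy⟩ from Subtype.ext h).map π
  have hne : ¬ Commute (bar D x a ha) (bar D x e he) := fun h => hae ((bar_commute hG.1 ha he).1 h)
  have hH : π ⟨g, hg⟩ ∈ H (img D x) (bar D x a ha) := by
    rw [← Fischer3Tv.centralizer_member h1 h2 h3 ⟨_, ha, rfl⟩, Subgroup.mem_centralizer_singleton_iff]
    exact hcm a ha hga
  have h0 : π ⟨g, hg⟩ = 1 := by
    refine (Fischer3Tv.mu_eq h1 h2 h3).2.1 _ ⟨_, ha, rfl⟩ _ ⟨_, he, rfl⟩ hne _ hH (hcm e he hge)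
      fun y hy => ?_
    obtain ⟨⟨z, hz'⟩, hz, rfl⟩ := hy.1.1
    have h2' := pCore_two_bot hG hprim hM
    exact hcm z hz (hall z ⟨⟨hz, (bar_perp hC h2' hx ha hz).1 hy.1⟩, (bar_perp hC h2' hx he hz).1 hy.2⟩)
  exact (below hG hprim hM).centre x hx g hg fun y hy =>
    commute_of_mem_center ((QuotientGroup.eq_one_iff _).1 h0) hy

theorem stab_image {d c b : G} (hd : d ∈ D) (hc : c ∈ D) (hdc : ¬ Commute d c)
    (hb : b ∈ perp D d ∩ perp D c) : 2 * (126 * 51840) ∣ Nat.card ↥(locStab D d c b) := by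
  have hB := below hG hprim hM
  obtain ⟨h1, h2, h3⟩ := img22 hG hprim hM hb.1.1
  have hC := class_of_primitive hG hprim
  have h2' := pCore_two_bot hG hprim hM
  refine two_mul_dvd hG.1 hb.1.1 (locStab_le_H hB.self d c b hb.1.1)
    (Subgroup.subset_closure (Or.inr rfl)) (QuotientGroup.mk' _)
    (fun h => (QuotientGroup.eq_one_iff _).2 (mem_center_closure _ fun y hy => hy.2.2)) ?_
  have pd := Fischer3Srg.perp_symm hd hb.1
  have pc := Fischer3Srg.perp_symm hc hb.2
  refine ((Fischer3Tv.mu_eq h1 h2 h3).2.2 _ ⟨_, pd, rfl⟩ _ ⟨_, pc, rfl⟩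
    fun h => hdc ((bar_commute hG.1 pd pc).1 h)).trans (Subgroup.card_dvd_of_le ?_)
  refine (Subgroup.closure_le _).2 fun y hy => ?_
  obtain ⟨⟨z, hz'⟩, hz, rfl⟩ := hy.1.1
  exact ⟨⟨z, hz'⟩, Subgroup.subset_closure (Or.inl ⟨⟨hz, (bar_perp hC h2' hb.1.1 pd hz).1 hy.1⟩,
    (bar_perp hC h2' hb.1.1 pc hz).1 hy.2⟩), rfl⟩

/-- Noncommuting members have 351 common neighbours; the orders that go with it. -/
theorem mu_eq : (∀ d ∈ D, ∀ c ∈ D, ¬ Commute d c → (perp D d ∩ perp D c).ncard = 351) ∧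
    Rigid D ∧ ∀ d ∈ D, ∀ c ∈ D, ¬ Commute d c → 351 * 13063680 ∣ Nat.card ↥(L D d c) := by
  have hB := below hG hprim hM
  obtain ⟨μ, hμ⟩ := exists_mu (setup hG hprim hM.1 (exists_wit hG hprim hM)) hG
  obtain ⟨-, d, hd, c, hc, hdc, -, ⟨c₃, hc₃, Q, hQ, hdet, ⟨e⟩⟩⟩ := id hM
  have h1 := count_A hB.loc hμ hd
  norm_num at h1
  have hμ0 : 0 < μ := by
    rcases Nat.eq_zero_or_pos μ with e | e
    · rw [e] at h1; norm_num at h1
    · exact e
  have hvar := (moments hB.loc hμ hd hc hdc).1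
  push_cast at hvar
  obtain ⟨hlo', hhi'⟩ := variance_arith (by exact_mod_cast hμ0) hvar
  have hlo : 351 ≤ μ := by exact_mod_cast hlo'
  have hhi : μ ≤ 675 := by exact_mod_cast hhi'
  have hR := rigid hB (rigid_below hG hprim hM) hμ (by omega : 126 + 1 < μ)
  have hdvd : ∀ a ∈ D, ∀ f ∈ D, ¬ Commute a f → μ * 13063680 ∣ Nat.card ↥(L D a f) := by
    intro a ha f hf haf
    obtain ⟨b, hb⟩ := Set.nonempty_of_ncard_ne_zero (s := perp D a ∩ perp D f)
      (by rw [hμ a ha f hf haf]; omega)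
    refine (mul_dvd_mul_left μ ((show 13063680 ∣ 2 * (126 * 51840) by norm_num).trans
      (stab_image hG hprim hM ha hf haf hb))).trans
      (mu_mul_dvd hG hB.loc hμ (by omega) ha hf haf hb (locStab_le a f b hb) fun t ht => ?_)
    exact commute_of_mem_H (locStab_le_H hB.self a f b hb.1.1 ht)
  have h2 : μ * 13063680 ∣ 702 * 13063680 := by
    refine (hdvd d hd c hc hdc).trans ?_
    rw [card_L hR hd hc hdc, Nat.card_congr e.toEquiv,
      show 702 * 13063680 = 9170703360 by norm_num, ← card_refl_seven Q hQ hc₃]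
    exact Subgroup.card_quotient_dvd_card _
  have h3 : μ ∣ 702 := (Nat.mul_dvd_mul_iff_right (by norm_num)).1 h2
  have hμeq : μ = 351 := by
    obtain ⟨k, hk⟩ := h3
    have h4 : k ≤ 2 := by
      by_contra! h
      exact absurd (Nat.mul_le_mul hlo (h : 3 ≤ k)) (by omega)
    interval_cases k <;> omega
  subst hμeq
  exact ⟨hμ, hR, hdvd⟩

theorem linked : Linked D :=
  linked_of_local (below hG hprim hM).loc (mu_eq hG hprim hM).1 (by norm_num) (by norm_num)
    (by norm_num) (by norm_num) (by norm_num) (by norm_num) (by norm_num) (by norm_num) (by norm_num)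
    (below hG hprim hM).quad

theorem srg : Srg D 31671 3510 693 351 :=
  srg_of (class_of_primitive hG hprim) (below hG hprim hM) (linked hG hprim hM) (by norm_num)
    (by norm_num) (mu_eq hG hprim hM).1 (by norm_num)

theorem centralizer_member {d : G} (hd : d ∈ D) : Subgroup.centralizer {d} = H D d :=
  (srg hG hprim hM).cent d hd

theorem card_group : D.ncard = 31671 ∧ Nat.card G = 31671 * (2 * 64561751654400) := by
  have hS := srg hG hprim hM
  obtain ⟨d, hd, -⟩ := hprim.2.1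
  obtain ⟨h1, h2, h3⟩ := img22 hG hprim hM hd
  refine ⟨hS.card, ?_⟩
  rw [card_G (class_of_primitive hG hprim) hd, hS.card, hS.cent d hd,
    card_H hG.1 (below hG hprim hM) hd, (Fischer3Tv.card_group h1 h2 h3).2]

end Cfsg.Agent.Fischer3Up
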